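import Cfsg.Agent.OddLocal44.M23.Data
import Cfsg.Agent.TT95.Uni22.Check

/-!
Kernel checks of the certificates for uniqueness of type M(23).
-/

set_option autoImplicit false
set_option maxRecDepth 100000

namespace Cfsg.Agent.OddLocal44.M23

open Cfsg.Agent.TT95.U6 Cfsg.Agent.TT95.Uni22

def stN (s : ℕ) : ℕ := Nat.shiftRight s 20
def stI (s : ℕ) : ℕ := Nat.land (Nat.shiftRight s 12) 255
def stO (s : ℕ) : ℕ := Nat.land s 4095

/-- The image of a named transposition under a word in the thirteen generators. -/
noncomputable def run (l : List ℕ) (c : ℕ) : ℕ := List.rec c (fun g _ ih => eTgt (ent ih g)) l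

/-- The word over the generators of the point given by a word in the twelve generating points. -/
def ptWord (e : List ℕ × ℕ) : List ℕ := e.1 ++ e.2 :: e.1.reverse

/-- The point given by a word. -/
def ptVal (e : List ℕ × ℕ) : ℕ := (e.1.map fun i => gX.getD i 0).foldr tv (gX.getD e.2 0)

/-- The conjugating path of a named transposition. -/
def pathW : ℕ → ℕ → List ℕ
  | 0, _ => []
  | f + 1, t => if Nat.beq t 0 then [] else parG t :: pathW f (parP t)

/-- The word of a named transposition. -/
def nameW (t : ℕ) : List ℕ := pathW 8 t ++ (lineW ++ (pathW 8 t).reverse)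

/-- The orbit steps are right and start from points seen. -/
noncomputable def stepsOK (w : ℕ → List ℕ) (n : ℕ) (L : List ℕ) : ℕ → Bool :=
  List.rec (fun _ => true)
    (fun s _ ih seen => inMask seen (stO s) && Nat.blt (stI s) n &&
      Nat.beq (run (w (stI s)) (stO s)) (stN s) && ih (addMask seen (stN s))) L

/-- The members of an orbit. -/
def members (o : ℕ × List ℕ) : List ℕ := o.1 :: o.2.map stN

noncomputable def orbOK (w : ℕ → List ℕ) (n : ℕ) (o : ℕ × List ℕ) : Bool :=
  stepsOK w n o.2 (addMask 0 o.1) && allP (fun c => Nat.blt c 3510) (members o)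

def orbs : ℕ → List (ℕ × List ℕ)
  | 0 => orbs0
  | 1 => orbs1
  | _ => orbs2

def target : ℕ → List Bool
  | 0 => target0
  | 1 => target1
  | _ => target2

def chain : ℕ → List ℕ
  | 1 => chain1
  | _ => chain2

def genOrb : ℕ → ℕ × List ℕ
  | 1 => gen1
  | _ => gen2

/-- The six generating points of the `k`-th standard set as words. -/
def pw (k i : ℕ) : List ℕ := ptWord ((ptW.getD k []).getD i ([], 0))

/-- The word of a member of the chain. -/
def cw (k i : ℕ) : List ℕ := nameW ((chain k).getD i 0)

/-- All Boolean lists of a given length. -/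
def bls : ℕ → List (List Bool)
  | 0 => [[]]
  | n + 1 => (bls n).flatMap fun b => [true :: b, false :: b]

/-- The total length of the selected orbits. -/
def selSum : List Bool → List ℕ → ℕ
  | b :: bs, l :: ls => (if b then l else 0) + selSum bs ls
  | _, _ => 0

/-- Membership in the selected orbits. -/
def inT (k c : ℕ) : Bool := ((orbs k).zip (target k)).any fun p => p.2 && (members p.1).contains c

/-- Edges of the diagram on a b c d e f g h i. -/
def adjL : List (ℕ × ℕ) := [(0, 1), (1, 2), (2, 3), (3, 4), (3, 7), (4, 5), (5, 6), (7, 8)]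

def adjB (i j : ℕ) : Bool := adjL.any fun p => (Nat.beq p.1 i && Nat.beq p.2 j) || (Nat.beq p.1 j && Nat.beq p.2 i)

def spiderL : List ℕ := [3, 2, 1, 3, 4, 5, 3, 7, 8]

def sevenL : List ℕ := [0, 1, 2, 3, 4, 5, 7]

/-- The word of a power of a product of members of the chain. -/
def powW (k : ℕ) (L : List ℕ) : ℕ → List ℕ
  | 0 => []
  | n + 1 => L.flatMap (cw k) ++ powW k L n

theorem pt_check : ∀ k < 3, ∀ i < 6,
    (let e := (ptW.getD k []).getD i ([], 0)
     Nat.beq (ptVal e) (psiK k (g0.getD i 0)) && e.1.all (fun j => Nat.blt j 12) && Nat.blt e.2 12 &&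
      (pw k i).all (fun j => Nat.blt j 13)) = true := by decide +kernel

theorem psiK_check : ∀ k < 3, ∀ k₀ < 3, ∀ i < 6,
    psiK k₀ (psiK ((k + 3 - k₀) % 3) (g0.getD i 0)) = psiK k (g0.getD i 0) := by decide +kernel

theorem lineW_check : lineW.all (fun j => Nat.blt j 13) = true ∧ lineW = lineE.flatMap ptWord ∧
    lineE.all (fun e => e.1.all (fun j => Nat.blt j 12) && Nat.blt e.2 12) = true ∧
    lineE.map ptVal = [1, 4, 5, 9, 13] := by decide +kernel

theorem chain_words_check : allP (fun k => allP (fun i => (cw k i).all (fun j => Nat.blt j 13) &&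
    Nat.blt ((chain k).getD i 0) 3510) (List.range 9)) [1, 2] = true := by decide +kernel

theorem root_check : allP (fun k => Nat.blt (rootA.getD k 0) 3510 &&
    (nameW (rootA.getD k 0)).all (fun j => Nat.blt j 13) &&
    allP (fun b => Nat.beq (run (nameW (rootA.getD k 0)) b) (run (pw k 0) b)) chain1) [0, 1, 2] = true := by
  decide +kernel

theorem orb_check : allP (fun k => allP (orbOK (pw k) 6) (orbs k)) [0, 1, 2] = true := by decide +kernel

theorem cover_check : allP (fun k =>
    Nat.beq ((orbs k).flatMap members).length 3510 &&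
    allP (fun c => inMask (maskOf ((orbs k).flatMap members)) c) (List.range 3510) &&
    Nat.beq ((orbs k).getD 0 (1, [])).1 0 && Nat.beq ((orbs k).getD 1 (0, [])).1 (rootA.getD k 0) &&
    Nat.beq (target k).length (orbs k).length) [0, 1, 2] = true := by decide +kernel

theorem sel_check : allP (fun k => allP (fun b =>
    !(b.getD 0 false && b.getD 1 false && Nat.beq (selSum b ((orbs k).map fun o => (members o).length)) 351) ||
      (!Nat.beq k 0 && b == target k)) (bls (orbs k).length)) [0, 1, 2] = true := by decide +kernel

theorem inT_check : allP (fun k => allP (fun i => inT k ((chain k).getD i 0) == !Nat.beq i 6)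
    (List.range 9)) [1, 2] = true := by decide +kernel

theorem adj_check : allP (fun k => allP (fun i => allP (fun j =>
    Nat.beq (run (cw k i) ((chain k).getD j 0)) ((chain k).getD j 0) == !adjB i j)
    (List.range 9)) (List.range 9)) [1, 2] = true := by decide +kernel

theorem gen_check : allP (fun k => orbOK (cw k) 9 (genOrb k) &&
    Nat.beq (genOrb k).1 ((chain k).getD 0 0) &&
    allP (fun c => inMask (maskOf (members (genOrb k))) c) (List.range 3510)) [1, 2] = true := by decide +kernel

theorem rel_check : allP (fun k => allP (fun b =>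
    Nat.beq (run (powW k spiderL 10) b) b && Nat.beq (run (powW k sevenL 9) b) b) (chain k)) [1, 2] = true := by
  decide +kernel

end Cfsg.Agent.OddLocal44.M23
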