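import Cfsg.Agent.TT95.Uni22.Unique
import Cfsg.Agent.OddLocal44.M23.Cert

/-!
Type M(22), read through the table: a closed set of 351 transpositions containing the base and the
standard set of six points is the certified one, and nine certified members generate.
-/

set_option autoImplicit false
set_option linter.unusedSectionVars false

namespace Cfsg.Agent.OddLocal44.M23

open Cfsg.Agent.TT95 Cfsg.Agent.TT95.U6 Cfsg.Agent.TT95.Uni22

theorem members_steps {w : ℕ → List ℕ} {n : ℕ} {P : ℕ → Prop}
    (hstep : ∀ i < n, ∀ c, c < 3510 → P c → P (run (w i) c)) :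
    ∀ (L : List ℕ) (seen : ℕ), stepsOK w n L seen = true → (∀ s ∈ L, stN s < 3510) →
      (∀ c, inMask seen c = true → P c ∧ c < 3510) → ∀ s ∈ L, P (stN s)
  | [], _, _, _, _, s, hs => absurd hs (List.not_mem_nil)
  | t :: L, seen, hok, hlt, hseen, s, hs => by
    have e : stepsOK w n (t :: L) seen = (inMask seen (stO t) && Nat.blt (stI t) n &&
      Nat.beq (run (w (stI t)) (stO t)) (stN t) && stepsOK w n L (addMask seen (stN t))) := rfl
    rw [e] at hok
    simp only [Bool.and_eq_true, Nat.blt_eq] at hok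
    obtain ⟨⟨⟨h1, h2⟩, h3⟩, h4⟩ := hok
    obtain ⟨p, hp⟩ := hseen _ h1
    have hnew : P (stN t) := Nat.eq_of_beq_eq_true h3 ▸ hstep _ h2 _ hp p
    rcases List.mem_cons.1 hs with rfl | hs
    · exact hnew
    · refine members_steps hstep L _ h4 (fun v hv => hlt v (List.mem_cons_of_mem _ hv)) (fun c hc => ?_) s hs
      rw [inMask_addMask, Bool.or_eq_true, decide_eq_true_eq] at hc
      rcases hc with hc | rfl
      · exact hseen c hc
      · exact ⟨hnew, hlt t List.mem_cons_self⟩

theorem members_of_root {w : ℕ → List ℕ} {n : ℕ} {o : ℕ × List ℕ} (hok : orbOK w n o = true) {P : ℕ → Prop}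
    (hstep : ∀ i < n, ∀ c, c < 3510 → P c → P (run (w i) c)) (hroot : P o.1) : ∀ c ∈ members o, P c := by
  simp only [orbOK, Bool.and_eq_true, allP_iff, Nat.blt_eq] at hok
  have hlt : ∀ s ∈ o.2, stN s < 3510 := fun s hs => hok.2 _ (List.mem_cons_of_mem _ (List.mem_map.2 ⟨s, hs, rfl⟩))
  intro c hc
  rcases List.mem_cons.1 hc with rfl | hc
  · exact hroot
  · obtain ⟨s, hs, rfl⟩ := List.mem_map.1 hc
    refine members_steps hstep o.2 _ hok.1 hlt (fun c hc => ?_) s hs
    rw [inMask_addMask, Bool.or_eq_true, decide_eq_true_eq] at hc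
    rcases hc with hc | rfl
    · simp [inMask, Nat.zero_shiftRight] at hc
    · exact ⟨hroot, hok.2 _ List.mem_cons_self⟩

theorem selSum_eq {α : Type} (sel : α → Bool) (len : α → ℕ) : ∀ l : List α,
    selSum (l.map sel) (l.map len) = (l.map fun x => if sel x then len x else 0).sum
  | [] => rfl
  | x :: l => by simp [selSum, selSum_eq sel len l]

theorem zip_self_map {α β : Type} (F : α → β) : ∀ l : List α, l.zip (l.map F) = l.map fun x => (x, F x)
  | [] => rfl
  | x :: l => by rw [List.map_cons, List.zip_cons_cons, zip_self_map F l, List.map_cons]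

theorem mem_bls : ∀ b : List Bool, b ∈ bls b.length
  | [] => List.mem_singleton.2 rfl
  | x :: b => by
    refine List.mem_flatMap.2 ⟨b, mem_bls b, ?_⟩
    cases x <;> simp

variable {G : Type*} [Group G] [Finite G] {D : Set G} {a d : G} {δ : ℕ → G} (h : Std D a d δ)

/-- The element of a word. -/
def pr (d : G) (δ : ℕ → G) (l : List ℕ) : G := (l.map (gen d δ)).prod

include h

theorem run_spec : ∀ (l : List ℕ), (∀ g ∈ l, g < 13) → ∀ c, c < 3510 →
    run l c < 3510 ∧ pr d δ l * name a d δ c * (pr d δ l)⁻¹ = name a d δ (run l c)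
  | [], _, c, hc => ⟨hc, by simp [pr, run]⟩
  | g :: l, hl, c, hc => by
    obtain ⟨h1, h2⟩ := run_spec l (fun u hu => hl u (List.mem_cons_of_mem _ hu)) c hc
    obtain ⟨h3, h4⟩ := ent_spec h h1 (hl g List.mem_cons_self)
    refine ⟨h3, ?_⟩
    show pr d δ (g :: l) * _ * _ = name a d δ (eTgt (ent (run l c) g))
    rw [← h4, ← h2, pr, List.map_cons, List.prod_cons, mul_inv_rev, inv_eq h.tt (gen_memD h g)]
    simp only [pr, mul_assoc]

theorem pr_ptWord {u : List ℕ} {x : ℕ} (hu : ∀ i ∈ u, i < 12) (hx : x < 12) :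
    pr d δ (ptWord (u, x)) = δ (ptVal (u, x)) ∧ isPt (ptVal (u, x)) = true := by
  show pr d δ (u ++ x :: u.reverse) = δ ((u.map fun i => gX.getD i 0).foldr tv (gX.getD x 0)) ∧
    isPt ((u.map fun i => gX.getD i 0).foldr tv (gX.getD x 0)) = true
  rw [pr, List.map_append, List.prod_append, List.map_cons, List.prod_cons, prod_rev h, ← mul_assoc]
  induction u with
  | nil => exact ⟨by simp [gen, hx], (gX_mem hx).2⟩
  | cons i u ih =>
    obtain ⟨e, hp⟩ := ih fun k hk => hu k (List.mem_cons_of_mem _ hk)
    refine ⟨?_, isPt_tv_gX h (gX_mem (hu i List.mem_cons_self)).1 hp⟩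
    rw [List.map_cons, List.map_cons, List.foldr_cons, ← gen_conj h (hu i List.mem_cons_self) hp, ← e,
      List.prod_cons]
    group

theorem pr_lineW : pr d δ lineW = a := by
  obtain ⟨-, h2, h3, h4⟩ := lineW_check
  have h3' := List.all_eq_true.1 h3
  have key : ∀ L : List (List ℕ × ℕ), (∀ e ∈ L, e ∈ lineE) →
      pr d δ (L.flatMap ptWord) = ((L.map ptVal).map δ).prod := by
    intro L
    induction L with
    | nil => simp [pr]
    | cons e L ih =>
      intro hL
      have he := h3' e (hL e List.mem_cons_self)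
      simp only [Bool.and_eq_true, List.all_eq_true, Nat.blt_eq] at he
      rw [List.flatMap_cons, pr, List.map_append, List.prod_append, List.map_cons, List.map_cons, List.prod_cons,
        ← ih fun v hv => hL v (List.mem_cons_of_mem _ hv), ← (pr_ptWord h (u := e.1) (x := e.2) he.1 he.2).1]
      rfl
  rw [h2, key lineE fun _ he => he, h4]
  simpa [mul_assoc] using h.line

theorem pr_nameW (t : ℕ) : pr d δ (nameW t) = name a d δ t := by
  have key : ∀ f t, nameF a d δ f t = pr d δ (pathW f t) * a * (pr d δ (pathW f t))⁻¹ := by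
    intro f
    induction f with
    | zero => intro t; simp [nameF, pathW, pr]
    | succ f ih =>
      intro t
      by_cases ht : t = 0
      · subst ht; simp [nameF, pathW, pr]
      · have hb : Nat.beq t 0 = false := by
          cases hb : Nat.beq t 0 with
          | false => rfl
          | true => exact absurd (Nat.eq_of_beq_eq_true hb) ht
        have e : pathW (f + 1) t = parG t :: pathW f (parP t) := by simp [pathW, hb]
        rw [nameF, if_neg ht, e, ih]
        simp only [pr, List.map_cons, List.prod_cons, mul_inv_rev, inv_eq h.tt (gen_memD h _), mul_assoc]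
  show ((nameW t).map (gen d δ)).prod = _
  rw [nameW, List.map_append, List.prod_append, List.map_append, List.prod_append, prod_rev h,
    show name a d δ t = nameF a d δ 8 t from rfl, key]
  show _ * (pr d δ lineW * _) = _
  rw [pr_lineW h]
  simp only [pr, mul_assoc]

variable (hC : Cfg22 D) [Gen D]

include hC

/-- The nine members of a chain generate. -/
theorem chain_gen {k : ℕ} (hk : k ∈ ([1, 2] : List ℕ)) :
    Subgroup.closure ((fun i => name a d δ ((chain k).getD i 0)) '' {i | i < 9}) = ⊤ := by
  set M := Subgroup.closure ((fun i => name a d δ ((chain k).getD i 0)) '' {i | i < 9}) with hM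
  have hg := allP_iff.1 gen_check k hk
  simp only [Bool.and_eq_true, allP_iff, List.mem_range] at hg
  obtain ⟨⟨hok, hroot⟩, hcov⟩ := hg
  have hw := allP_iff.1 chain_words_check k hk
  have hall : ∀ c ∈ members (genOrb k), name a d δ c ∈ M := by
    refine members_of_root hok (fun i hi c hc hP => ?_) ?_
    · have hi' := allP_iff.1 hw i (List.mem_range.2 hi)
      simp only [Bool.and_eq_true, List.all_eq_true, Nat.blt_eq] at hi'
      have hmem : pr d δ (cw k i) ∈ M := by
        rw [cw, pr_nameW h]
        exact Subgroup.subset_closure ⟨i, hi, rfl⟩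
      rw [← (run_spec h (cw k i) hi'.1 c hc).2]
      exact mul_mem (mul_mem hmem hP) (inv_mem hmem)
    · rw [Nat.eq_of_beq_eq_true hroot]
      exact Subgroup.subset_closure ⟨0, by simp, rfl⟩
  rw [eq_top_iff, ← Gen.gen (D := D), Subgroup.closure_le]
  intro x hx
  obtain ⟨c, hc, rfl⟩ := (numbering hC h).1.surjOn hx
  exact hall c (inMask_maskOf.1 (hcov c hc))

/-- An element fixing the nine members of a chain is trivial. -/
theorem eq_one_of_chain {k : ℕ} (hk : k ∈ ([1, 2] : List ℕ)) {l : List ℕ} (hl : ∀ g ∈ l, g < 13)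
    (hfix : ∀ b ∈ chain k, b < 3510 ∧ run l b = b) (hlen : (chain k).length = 9) : pr d δ l = 1 := by
  set x := pr d δ l
  have hle : Subgroup.closure ((fun i => name a d δ ((chain k).getD i 0)) '' {i | i < 9}) ≤
      Subgroup.centralizer {x} := by
    rw [Subgroup.closure_le]
    rintro _ ⟨i, hi, rfl⟩
    have hm : (chain k).getD i 0 ∈ chain k := by
      rw [List.getD_eq_getElem _ _ (by rw [hlen]; exact hi)]
      exact List.getElem_mem _
    obtain ⟨hb, hr⟩ := hfix _ hm
    have := (run_spec h l hl _ hb).2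
    rw [hr] at this
    exact Subgroup.mem_centralizer_singleton_iff.2 (mul_inv_eq_iff_eq_mul.1 this).symm
  rw [chain_gen h hC hk] at hle
  have hmem : x ∈ Subgroup.center G := Subgroup.mem_center_iff.2 fun g =>
    Subgroup.mem_centralizer_singleton_iff.1 (hle (Subgroup.mem_top g))
  rwa [hC.center, Subgroup.mem_bot] at hmem

theorem chain_length : (chain 1).length = 9 ∧ (chain 2).length = 9 := by decide +kernel

/-- The first generating point of the `k`-th standard set is the named root. -/
theorem root_eq {k : ℕ} (hk : k < 3) : δ (psiK k (g0.getD 0 0)) = name a d δ (rootA.getD k 0) := by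
  have hp := pt_check k hk 0 (by norm_num)
  simp only [Bool.and_eq_true, List.all_eq_true, Nat.blt_eq] at hp
  obtain ⟨⟨⟨hv, hu⟩, hx⟩, hpw⟩ := hp
  have e1 : pr d δ (pw k 0) = δ (psiK k (g0.getD 0 0)) := by
    rw [← Nat.eq_of_beq_eq_true hv]
    exact (pr_ptWord h hu hx).1
  have hr := allP_iff.1 root_check k (by interval_cases k <;> simp)
  simp only [Bool.and_eq_true, allP_iff, List.all_eq_true, Nat.blt_eq] at hr
  obtain ⟨⟨hrlt, hrw⟩, heq⟩ := hr
  have hlen := (chain_length h hC).1
  have hcw := allP_iff.1 chain_words_check 1 (by simp)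
  have hblt : ∀ b ∈ chain 1, b < 3510 := by
    intro b hb
    obtain ⟨i, hi, rfl⟩ := List.getElem_of_mem hb
    have := allP_iff.1 hcw i (List.mem_range.2 (hlen ▸ hi))
    simp only [Bool.and_eq_true, Nat.blt_eq] at this
    rw [← List.getD_eq_getElem _ 0 hi]
    exact this.2
  rw [← e1, ← pr_nameW h (rootA.getD k 0)]
  set A := pr d δ (nameW (rootA.getD k 0)) with hA
  set B := pr d δ (pw k 0) with hB
  have hfix : ∀ b ∈ chain 1, A * name a d δ b * A⁻¹ = B * name a d δ b * B⁻¹ := by
    intro b hb
    rw [hA, hB, (run_spec h _ hrw b (hblt b hb)).2, (run_spec h _ hpw b (hblt b hb)).2,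
      Nat.eq_of_beq_eq_true (heq b hb)]
  have hle : Subgroup.closure ((fun i => name a d δ ((chain 1).getD i 0)) '' {i | i < 9}) ≤
      Subgroup.centralizer {B⁻¹ * A} := by
    rw [Subgroup.closure_le]
    rintro _ ⟨i, hi, rfl⟩
    have hm : (chain 1).getD i 0 ∈ chain 1 := by
      rw [List.getD_eq_getElem _ _ (by rw [hlen]; exact hi)]
      exact List.getElem_mem _
    refine Subgroup.mem_centralizer_singleton_iff.2 ?_
    symm
    calc B⁻¹ * A * name a d δ ((chain 1).getD i 0)
        = B⁻¹ * (A * name a d δ ((chain 1).getD i 0) * A⁻¹) * A := by group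
      _ = B⁻¹ * (B * name a d δ ((chain 1).getD i 0) * B⁻¹) * A := by rw [hfix _ hm]
      _ = name a d δ ((chain 1).getD i 0) * (B⁻¹ * A) := by group
  rw [chain_gen h hC (by simp)] at hle
  have hmem : B⁻¹ * A ∈ Subgroup.center G := Subgroup.mem_center_iff.2 fun g =>
    Subgroup.mem_centralizer_singleton_iff.1 (hle (Subgroup.mem_top g))
  rw [hC.center, Subgroup.mem_bot, inv_mul_eq_one] at hmem
  exact hmem

/-- The closed set is the certified one. -/
theorem closed_set_eq {k : ℕ} (hk : k < 3) {T : Set G} (hTD : T ⊆ D)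
    (hcl : ∀ x ∈ T, ∀ y ∈ T, x * y * x ∈ T) (hcard : T.ncard = 351) (ha : a ∈ T)
    (hg : ∀ g ∈ g0, δ (psiK k g) ∈ T) :
    k ∈ ([1, 2] : List ℕ) ∧ ∀ c, c < 3510 → (name a d δ c ∈ T ↔ inT k c = true) := by
  classical
  have hk' : k ∈ ([0, 1, 2] : List ℕ) := by interval_cases k <;> simp
  have hg0mem : ∀ i < 6, g0.getD i 0 ∈ g0 := by decide
  have hgen : ∀ i < 6, pr d δ (pw k i) ∈ T ∧ ∀ g ∈ pw k i, g < 13 := by
    intro i hi
    have hp := pt_check k hk i hi
    simp only [Bool.and_eq_true, List.all_eq_true, Nat.blt_eq] at hp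
    obtain ⟨⟨⟨hv, hu⟩, hx⟩, hpw⟩ := hp
    refine ⟨?_, hpw⟩
    have e := (pr_ptWord h hu hx).1
    rw [Nat.eq_of_beq_eq_true hv] at e
    exact e ▸ hg _ (hg0mem i hi)
  set P : ℕ → Prop := fun c => name a d δ c ∈ T with hP
  have hinv : ∀ i < 6, ∀ c, c < 3510 → (P c ↔ P (run (pw k i) c)) := by
    intro i hi c hc
    obtain ⟨hT, hl⟩ := hgen i hi
    set x := pr d δ (pw k i)
    have hxi : x⁻¹ = x := inv_eq h.tt (hTD hT)
    have hr := (run_spec h _ hl c hc).2
    rw [hxi] at hr
    show _ ∈ T ↔ _ ∈ T
    rw [← hr]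
    refine ⟨fun hh => hcl _ hT _ hh, fun hh => ?_⟩
    have h2 := hcl _ hT _ hh
    rwa [show x * (x * name a d δ c * x) * x = (x * x) * name a d δ c * (x * x) by group,
      sq h.tt (hTD hT), one_mul, mul_one] at h2
  have horb := allP_iff.1 orb_check k hk'
  have hcst : ∀ o ∈ orbs k, ∀ c ∈ members o, P c ↔ P o.1 := fun o ho =>
    members_of_root (P := fun c => P c ↔ P o.1) (allP_iff.1 horb o ho)
      (fun i hi c hc hh => (hinv i hi c hc).symm.trans hh) Iff.rfl
  have hcov := allP_iff.1 cover_check k hk'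
  simp only [Bool.and_eq_true, allP_iff, List.mem_range] at hcov
  obtain ⟨⟨⟨⟨hlen, hall⟩, hr0⟩, hr1⟩, htl⟩ := hcov
  have hlen' := Nat.eq_of_beq_eq_true hlen
  set L := (orbs k).flatMap members with hL
  have hLfin : L.toFinset = Finset.range 3510 := by
    refine (Finset.eq_of_subset_of_card_le (fun c hc => ?_) ?_).symm
    · exact List.mem_toFinset.2 (inMask_maskOf.1 (hall c (Finset.mem_range.1 hc)))
    · rw [Finset.card_range, ← hlen']; exact L.toFinset_card_le
  have hnd : L.Nodup := by
    refine List.dedup_eq_self.1 ((List.dedup_sublist L).eq_of_length ?_)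
    rw [← List.card_toFinset, hLfin, Finset.card_range, hlen']
  obtain ⟨hbij, -⟩ := numbering hC h
  have hTimg : T = name a d δ '' ↑(L.toFinset.filter fun c => name a d δ c ∈ T) := by
    ext x
    simp only [Set.mem_image, Finset.coe_filter, Set.mem_setOf_eq, hLfin, Finset.mem_range]
    constructor
    · intro hx
      obtain ⟨c, hc, rfl⟩ := hbij.surjOn (hTD hx)
      exact ⟨c, ⟨hc, hx⟩, rfl⟩
    · rintro ⟨c, ⟨-, hc⟩, rfl⟩
      exact hc
  have hcount : L.countP (fun c => decide (P c)) = 351 := by
    rw [List.countP_eq_length_filter, ← List.toFinset_card_of_nodup (hnd.filter _), List.toFinset_filter]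
    rw [← hcard]
    conv_rhs => rw [hTimg]
    rw [Set.InjOn.ncard_image, Set.ncard_coe_finset]
    · congr 1
      ext c
      simp [hP]
    · intro u hu v hv e
      simp only [Finset.coe_filter, Set.mem_setOf_eq, hLfin, Finset.mem_range] at hu hv
      exact hbij.injOn hu.1 hv.1 e
  have hsum : ((orbs k).map fun o => if decide (P o.1) then (members o).length else 0).sum = 351 := by
    rw [← hcount, hL, List.countP_flatMap]
    refine congrArg _ (List.map_congr_left fun o ho => ?_)
    show _ = List.countP _ (members o)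
    by_cases hP' : P o.1
    · rw [decide_eq_true hP', if_pos rfl, List.countP_eq_length.2 fun c hc => decide_eq_true ((hcst o ho c hc).2 hP')]
    · rw [decide_eq_false hP', if_neg Bool.false_ne_true, eq_comm, List.countP_eq_zero]
      exact fun c hc => by simpa using fun e => hP' ((hcst o ho c hc).1 e)
  set b := (orbs k).map fun o => decide (P o.1) with hb
  have hsel := allP_iff.1 (allP_iff.1 sel_check k hk') b (by
    have := mem_bls b
    rwa [hb, List.length_map] at this)
  have h2 : 2 ≤ (orbs k).length := by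
    rcases (List.mem_cons.1 hk') with rfl | hk'
    · decide
    · rcases (List.mem_cons.1 hk') with rfl | hk'
      · decide
      · obtain rfl := List.mem_singleton.1 hk'
        decide
  have hb0 : ∀ i, i < (orbs k).length → b.getD i false = decide (P ((orbs k).getD i (0, [])).1) := fun i hi => by
    rw [hb, List.getD_eq_getElem _ _ (by rw [List.length_map]; exact hi), List.getElem_map,
      List.getD_eq_getElem _ _ hi]
  have hroot0 : P 0 := by
    show name a d δ 0 ∈ T
    simpa [name, nameF] using ha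
  have hroot1 : P (rootA.getD k 0) := by
    show name a d δ _ ∈ T
    rw [← root_eq h hC hk]
    exact hg _ (hg0mem 0 (by norm_num))
  have e0 : b.getD 0 false = true := by
    rw [hb0 0 (by omega), decide_eq_true_iff]
    have := Nat.eq_of_beq_eq_true hr0
    rw [List.getD_eq_getElem _ _ (show 0 < (orbs k).length by omega)] at this ⊢
    rw [this]; exact hroot0
  have e1 : b.getD 1 false = true := by
    rw [hb0 1 (by omega), decide_eq_true_iff, Nat.eq_of_beq_eq_true hr1]
    exact hroot1
  rw [selSum_eq, hsum, e0, e1] at hsel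
  simp only [Nat.beq_refl, Bool.and_self, Bool.not_true, Bool.false_or, Bool.and_eq_true,
    Bool.not_eq_true', beq_iff_eq] at hsel
  obtain ⟨hk0, hbt⟩ := hsel
  refine ⟨?_, fun c hc => ?_⟩
  · rcases List.mem_cons.1 hk' with rfl | hk'
    · simp at hk0
    · exact hk'
  obtain ⟨o, ho, hco⟩ : ∃ o ∈ orbs k, c ∈ members o :=
    List.mem_flatMap.1 (List.mem_toFinset.1 (hLfin.symm ▸ Finset.mem_range.2 hc))
  have hzip : (orbs k).zip (target k) = (orbs k).map fun o => (o, decide (P o.1)) := by
    rw [← hbt, hb]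
    exact zip_self_map _ _
  show P c ↔ _
  rw [inT, hzip, hcst o ho c hco, List.any_map, List.any_eq_true]
  simp only [Function.comp, Bool.and_eq_true, decide_eq_true_iff, List.contains_iff_mem]
  exact ⟨fun hp => ⟨o, ho, hp, hco⟩, fun ⟨o', ho', hp, hc'⟩ => (hcst o ho c hco).symm.trans ((hcst o' ho' c hc').trans Iff.rfl) |>.2 hp⟩

end Cfsg.Agent.OddLocal44.M23
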