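import Cfsg.Agent.OddLocal44.M23.Frame
import Cfsg.Agent.OddLocal44.M23.Model
import Cfsg.Agent.SporB.Fi23.Main

/-!
Type M(23): the presented group Fi23 maps isomorphically onto every group of this type, its first generator
going to a transposition.
-/

set_option autoImplicit false
set_option linter.unusedSectionVars false

namespace Cfsg.Agent.OddLocal44.M23

open Cfsg.Agent.TT95 Cfsg.Agent.TT95.U6 Cfsg.Agent.TT95.Uni22

/-- The place of a generator among a b c d e f g h i; `j` gets 9. -/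
def genIdx : Cfsg.Spor.Fi23.Gen → ℕ
  | .a => 0
  | .b => 1
  | .c => 2
  | .d => 3
  | .e => 4
  | .f => 5
  | .g => 6
  | .h => 7
  | .i => 8
  | .j => 9

theorem genIdx_lt (x : Cfsg.Spor.Fi23.Gen) : genIdx x < 10 := by cases x <;> decide

theorem coxLabel_eq (x y : Cfsg.Spor.Fi23.Gen) : Cfsg.Spor.coxLabel Cfsg.Spor.Fi23.edges x y =
    if genIdx x = genIdx y then 1 else
      if adjB (genIdx x) (genIdx y) || (Nat.beq (genIdx x) 9 && Nat.beq (genIdx y) 6) ||
        (Nat.beq (genIdx x) 6 && Nat.beq (genIdx y) 9) then 3 else 2 := by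
  cases x <;> cases y <;> decide

theorem jEdge : ∀ i, i < 9 →
    ((adjB 9 i || (Nat.beq 9 9 && Nat.beq i 6) || (Nat.beq 9 6 && Nat.beq i 9)) = false ↔ i ≠ 6) ∧
    ((adjB i 9 || (Nat.beq i 9 && Nat.beq 9 6) || (Nat.beq i 6 && Nat.beq 9 9)) = false ↔ i ≠ 6) := by decide

theorem pr_powW {G : Type*} [Group G] (d : G) (δ : ℕ → G) (k : ℕ) (L : List ℕ) :
    ∀ n, pr d δ (powW k L n) = pr d δ (L.flatMap (cw k)) ^ n
  | 0 => by simp [powW, pr]
  | n + 1 => by
    rw [pow_succ', ← pr_powW d δ k L n]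
    simp [powW, pr, List.map_append, List.prod_append]

variable {G : Type*} [Group G] [Finite G] {D : Set G} {d : G} (hG : Cfg23 D d) [Gen D]

include hG

/-- Ten transpositions satisfying the presentation and generating. -/
theorem exists_gens : ∃ v : Cfsg.Spor.Fi23.Gen → G, (∀ x, v x ∈ D) ∧ Subgroup.closure (Set.range v) = ⊤ ∧
    (∀ x y, (v x * v y) ^ Cfsg.Spor.coxLabel Cfsg.Spor.Fi23.edges x y = 1) ∧
    ∀ r ∈ Cfsg.Spor.Fi23.extra, FreeGroup.lift v r = 1 := by
  classical
  have hD := hG.lay.tt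
  haveI := gen_loc hG
  haveI := loc_finite hD d
  have hC := hG.loc
  have hz := hG.mem
  obtain ⟨f, hf⟩ := hG.step.iso d hz
  obtain ⟨φ, hφ, -, hker⟩ := hf.exists_hom hD hC.tt hC.center
  obtain ⟨x₀, hx₀⟩ : (nb D d).Nonempty :=
    Set.nonempty_of_ncard_ne_zero (by rw [hG.lay.card_nb d hz]; norm_num)
  set t := f x₀
  have ht : t ∈ locSet D d := hf.mem hx₀
  obtain ⟨γ, hγ, k₀, hk₀, dd, hstd⟩ := exists_std_local hC ht
  obtain ⟨j, hj, ⟨w, hwS, hwt⟩, k₁, hk₁, hset⟩ := exists_frame hG hz hf ht hγ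
  set δ : ℕ → ModCenter (Subgroup.closure (nb D d)) := fun p => γ (psiK k₀ p) with hδ
  set T := f '' common D d j with hT
  have hScl : ∀ x ∈ common D d j, ∀ y ∈ common D d j, x * y * x ∈ common D d j := by
    intro x hx y hy
    have hxx := sq hD hx.1.1
    have hm := conj_mem' hD hy.1.1 hx.1.1
    have hne : ∀ u, Commute u x → Commute u y → x * y * x = u → y = u := fun u h1 h2 e => by
      calc y = x * (x * y * x) * x := by rw [show x * (x * y * x) * x = (x * x) * y * (x * x) by group, hxx]; simp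
        _ = u := by rw [e, ← h1.eq, mul_assoc, hxx, mul_one]
    exact ⟨⟨hm, fun e => hy.1.2.1 (hne d hx.1.2.2 hy.1.2.2 e), (hx.1.2.2.mul_right hy.1.2.2).mul_right hx.1.2.2⟩,
      hm, fun e => hy.2.2.1 (hne j hx.2.2.2 hy.2.2.2 e), (hx.2.2.2.mul_right hy.2.2.2).mul_right hx.2.2.2⟩
  have hTcl : ∀ x ∈ T, ∀ y ∈ T, x * y * x ∈ T := by
    rintro _ ⟨x, hx, rfl⟩ _ ⟨y, hy, rfl⟩
    exact ⟨x * y * x, hScl x hx y hy, hf.conj x hx.1 y hy.1⟩
  have hTcard : T.ncard = 351 := by
    rw [hT, hf.ncard_image fun x hx => hx.1]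
    exact hG.lay.card_far d hz j hj
  have hTD : T ⊆ locSet D d := by rintro _ ⟨x, hx, rfl⟩; exact hf.mem hx.1
  set k := (k₁ + 3 - k₀) % 3 with hkdef
  have hTg : ∀ g ∈ g0, δ (psiK k g) ∈ T := by
    intro g hg
    have hp := List.all_eq_true.1 s0_check.2.2.1 g hg
    obtain ⟨i, hi, rfl⟩ := List.getElem_of_mem hg
    have hlen : g0.length = 6 := lengths.2.2.2.2.1
    have e := psiK_check k₁ hk₁ k₀ hk₀ i (hlen ▸ hi)
    rw [List.getD_eq_getElem _ _ hi] at e
    show γ (psiK k₀ (psiK k _)) ∈ T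
    rw [hkdef, e]
    obtain ⟨x, hx, ex⟩ := hf.surj (hγ.mem _ (psiK_spec hC (k := k₁) hp).1).1
    have hc := hset _ hg x hx ex
    exact ⟨x, ⟨hx, hx.1, fun e => hj.2 (e ▸ hx.2.2), hc⟩, ex⟩
  obtain ⟨hk, hmemT⟩ := closed_set_eq hstd hC (Nat.mod_lt _ (by norm_num)) hTD hTcl hTcard
    ⟨w, hwS, hwt⟩ hTg
  have hcw := allP_iff.1 chain_words_check k hk
  have hci : ∀ i < 9, (chain k).getD i 0 < 3510 ∧ ∀ g ∈ cw k i, g < 13 := fun i hi => by
    have := allP_iff.1 hcw i (List.mem_range.2 hi)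
    simp only [Bool.and_eq_true, List.all_eq_true, Nat.blt_eq] at this
    exact ⟨this.2, this.1⟩
  obtain ⟨hbij, -⟩ := numbering hC hstd
  have hlift : ∀ i, i < 9 → ∃ y, y ∈ nb D d ∧ f y = name t dd δ ((chain k).getD i 0) := fun i hi =>
    hf.surj (hbij.mapsTo (hci i hi).1)
  choose! y hy hyf using hlift
  have hyj : ∀ i < 9, (Commute j (y i) ↔ i ≠ 6) := by
    intro i hi
    have h1 := hmemT _ (hci i hi).1
    have h2 := allP_iff.1 (allP_iff.1 inT_check k hk) i (List.mem_range.2 hi)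
    rw [beq_iff_eq] at h2
    rw [h2, ← hyf i hi] at h1
    refine Iff.trans ⟨fun hc => ?_, fun hc => ?_⟩ (h1.trans ?_)
    · exact ⟨y i, ⟨hy i hi, (hy i hi).1, fun e => hj.2 (e ▸ (hy i hi).2.2), hc⟩, rfl⟩
    · obtain ⟨x, hx, e⟩ := hc
      exact hf.inj hx.1 (hy i hi) e ▸ hx.2.2.2
    · simp only [Bool.not_eq_true', ne_eq]
      exact ⟨fun e e' => by subst e'; simp at e, fun e => by
        cases hb : Nat.beq i 6 with
        | false => rfl
        | true => exact absurd (Nat.eq_of_beq_eq_true hb) e⟩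
  have hyy : ∀ i < 9, ∀ i' < 9, (Commute (y i) (y i') ↔ adjB i i' = false) := by
    intro i hi i' hi'
    have h2 := allP_iff.1 (allP_iff.1 (allP_iff.1 adj_check k hk) i (List.mem_range.2 hi)) i' (List.mem_range.2 hi')
    rw [beq_iff_eq] at h2
    obtain ⟨hr, he⟩ := run_spec hstd _ (hci i hi).2 _ (hci i' hi').1
    rw [cw, pr_nameW hstd] at he
    rw [← hf.comm _ (hy i hi) _ (hy i' hi'), hyf i hi, hyf i' hi', ← Bool.not_eq_true' , ← h2]
    constructor
    · intro hc
      rw [hc.eq, mul_inv_cancel_right] at he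
      rw [← hbij.injOn (hci i' hi').1 hr he]
      exact Nat.beq_refl _
    · intro hb
      have hb' := Nat.eq_of_beq_eq_true hb
      rw [cw] at hb'
      rw [hb'] at he
      exact mul_inv_eq_iff_eq_mul.1 he
  set v : Cfsg.Spor.Fi23.Gen → G := fun x => if genIdx x = 9 then j else y (genIdx x) with hv
  have hvm : ∀ x, v x ∈ D := fun x => by
    have := genIdx_lt x
    simp only [hv]; split_ifs
    · exact hj.1
    · exact (hy _ (by omega)).1
  have hne9 : ∀ i < 9, (i : ℕ) ≠ 9 := fun i hi => by omega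
  refine ⟨v, hvm, ?_, fun x x' => ?_, ?_⟩
  · set M := Subgroup.closure (Set.range v) with hM
    have hyM : ∀ i < 9, y i ∈ M := by
      intro i hi
      refine Subgroup.subset_closure ⟨([.a, .b, .c, .d, .e, .f, .g, .h, .i] : List Cfsg.Spor.Fi23.Gen).getD i .a, ?_⟩
      interval_cases i <;> simp [hv, genIdx]
    have hjM : j ∈ M := Subgroup.subset_closure ⟨.j, by simp [hv, genIdx]⟩
    have hg := allP_iff.1 gen_check k hk
    simp only [Bool.and_eq_true, allP_iff, List.mem_range] at hg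
    obtain ⟨⟨hok, hroot⟩, hcov⟩ := hg
    have hall : ∀ c ∈ members (genOrb k), ∀ x ∈ nb D d, f x = name t dd δ c → x ∈ M := by
      refine members_of_root hok (fun i hi c hc hP x hx e => ?_) ?_
      · obtain ⟨-, he⟩ := run_spec hstd _ (hci i hi).2 c hc
        rw [cw, pr_nameW hstd] at he
        obtain ⟨x', hx', e'⟩ := hf.surj (hbij.mapsTo hc)
        have hmem := conj_mem_nb hD (Subgroup.subset_closure (hy i hi)) hx'
        rw [inv_eq hD (hy i hi).1] at hmem
        rw [← hyf i hi, ← e', inv_eq hC.tt (hf.mem (hy i hi)), ← hf.conj _ (hy i hi) _ hx'] at he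
        rw [cw] at e
        rw [hf.inj hx hmem (e.trans he.symm)]
        exact mul_mem (mul_mem (hyM i hi) (hP x' hx' e')) (hyM i hi)
      · intro x hx e
        rw [Nat.eq_of_beq_eq_true hroot, ← hyf 0 (by norm_num)] at e
        rw [hf.inj hx (hy 0 (by norm_num)) e]
        exact hyM 0 (by norm_num)
    have hnbM : ∀ x ∈ nb D d, x ∈ M := fun x hx => by
      obtain ⟨c, hc, e⟩ := hbij.surjOn (hf.mem hx)
      exact hall c (inMask_maskOf.1 (hcov c hc)) x hx e.symm
    have hclM : Subgroup.closure (nb D d) ≤ M := (Subgroup.closure_le _).2 hnbM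
    rw [eq_top_iff, ← Gen.gen (D := D), Subgroup.closure_le]
    intro x hx
    rcases TT95.mem_nb_or_far (a := d) hx with h1 | h1 | h1
    · exact h1 ▸ hclM (self_mem23 hG)
    · exact hnbM x h1
    · obtain ⟨g, hg1, hg2⟩ := hG.lay.farPairs d j d x hz hj hz h1
      have hgM : g ∈ M := hclM (centralizer23 hG hz ▸ Subgroup.mem_centralizer_singleton_iff.2
        (mul_inv_eq_iff_eq_mul.1 hg1))
      exact hg2 ▸ mul_mem (mul_mem hgM hjM) (inv_mem hgM)
  · have hsq := fun u => sq hD (hvm u)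
    by_cases hxx : genIdx x = genIdx x'
    · rw [coxLabel_eq, if_pos hxx, pow_one]
      have : x = x' := by cases x <;> cases x' <;> first | rfl | simp [genIdx] at hxx
      rw [this, hsq]
    · rw [coxLabel_eq, if_neg hxx]
      have hl := genIdx_lt x
      have hl' := genIdx_lt x'
      have hcomm : Commute (v x) (v x') ↔ (adjB (genIdx x) (genIdx x') ||
          (Nat.beq (genIdx x) 9 && Nat.beq (genIdx x') 6) ||
          (Nat.beq (genIdx x) 6 && Nat.beq (genIdx x') 9)) = false := by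
        by_cases e : genIdx x = 9
        · have e' : genIdx x' ≠ 9 := fun h => hxx (e.trans h.symm)
          simp only [hv, e, if_pos, e', if_false]
          rw [hyj _ (by omega)]
          exact (jEdge _ (by omega)).1.symm
        · by_cases e' : genIdx x' = 9
          · simp only [hv, e', if_pos, e, if_false]
            rw [show Commute (y (genIdx x)) j ↔ Commute j (y (genIdx x)) from ⟨Commute.symm, Commute.symm⟩,
              hyj _ (by omega)]
            exact (jEdge _ (by omega)).2.symm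
          · simp only [hv, e, e', if_false]
            rw [hyy _ (by omega) _ (by omega)]
            simp only [Bool.or_eq_false_iff, Bool.and_eq_false_iff]
            refine ⟨fun h => ⟨⟨h, Or.inl ?_⟩, Or.inr ?_⟩, fun h => h.1.1⟩ <;>
              exact (Bool.eq_false_iff.2 fun hb => by
                first
                | exact e (Nat.eq_of_beq_eq_true hb)
                | exact e' (Nat.eq_of_beq_eq_true hb))
      split_ifs with hb
      · have hn : ¬ Commute (v x) (v x') := fun hc => by rw [hcomm.1 hc] at hb; exact Bool.noConfusion hb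
        have hbr := braid hD (hvm x) (hvm x') hn
        calc (v x * v x') ^ 3 = (v x * v x' * v x) * (v x' * v x * v x') := by
              simp only [pow_succ, pow_zero, one_mul, mul_assoc]
          _ = (v x * v x' * v x) * (v x * v x' * v x) := by rw [hbr]
          _ = v x * v x' * (v x * v x) * v x' * v x := by group
          _ = 1 := by rw [hsq, mul_one, mul_assoc (v x) (v x'), hsq, mul_one, hsq]
      · rw [Bool.not_eq_true] at hb
        rw [(hcomm.2 hb).mul_pow, pow_two, pow_two, hsq, hsq, one_mul]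
  · have hprod : ∀ L : List ℕ, (∀ i ∈ L, i < 9 ∧ i ≠ 6) →
        ∃ he : (L.map y).prod ∈ Subgroup.closure (nb D d),
          φ ⟨_, he⟩ = pr dd δ (L.flatMap (cw k)) ∧ Commute j (L.map y).prod := by
      intro L
      induction L with
      | nil => exact fun _ => ⟨one_mem _, (map_one φ).trans (by simp [pr]), by simp⟩
      | cons i L ih =>
        intro hL
        obtain ⟨he, e1, e2⟩ := ih fun u hu => hL u (List.mem_cons_of_mem _ hu)
        obtain ⟨hi, hi6⟩ := hL i List.mem_cons_self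
        refine ⟨mul_mem (Subgroup.subset_closure (hy i hi)) he, ?_, ((hyj i hi).2 hi6).mul_right e2⟩
        have : φ (⟨y i, Subgroup.subset_closure (hy i hi)⟩ * ⟨_, he⟩) = pr dd δ ((i :: L).flatMap (cw k)) := by
          rw [map_mul, hφ _ (hy i hi), e1, hyf i hi, ← pr_nameW hstd]
          simp [pr, cw, List.map_append, List.prod_append]
        exact this
    have hrel := allP_iff.1 rel_check k hk
    simp only [Bool.and_eq_true, allP_iff] at hrel
    have hkill : ∀ (L : List ℕ) (n : ℕ), (∀ i ∈ L, i < 9 ∧ i ≠ 6) →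
        (∀ b ∈ chain k, run (powW k L n) b = b) → (L.map y).prod ^ n = 1 := by
      intro L n hL hrun
      obtain ⟨he, e1, e2⟩ := hprod L hL
      have hlt : ∀ m, ∀ g ∈ powW k L m, g < 13 := by
        intro m
        induction m with
        | zero => simp [powW]
        | succ m ih =>
          intro g hg
          rcases List.mem_append.1 (show g ∈ L.flatMap (cw k) ++ powW k L m from hg) with h | h
          · obtain ⟨i, hi, hgi⟩ := List.mem_flatMap.1 h
            exact (hci i (hL i hi).1).2 g hgi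
          · exact ih g h
      have hlen : (chain k).length = 9 := by
        rcases List.mem_cons.1 hk with h | h
        · rw [show k = 1 from h]; exact (chain_length hstd hC).1
        · rw [show k = 2 from List.mem_singleton.1 h]; exact (chain_length hstd hC).2
      have hblt : ∀ b ∈ chain k, b < 3510 := fun b hb => by
        obtain ⟨i, hi, rfl⟩ := List.getElem_of_mem hb
        rw [← List.getD_eq_getElem _ 0 hi]
        exact (hci i (hlen ▸ hi)).1
      have h1 := eq_one_of_chain hstd hC hk (hlt n) (fun b hb => ⟨hblt b hb, hrun b hb⟩) hlen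
      rw [pr_powW, ← e1, ← map_pow, hker] at h1
      have h2 := hG.lay.kernel hz
        (commute_closure_nb hD (pow_mem he n)).symm h1
      refine h2.resolve_right fun h => hj.2 ?_
      rw [← h]
      exact (e2.pow_right n).symm
    intro r hr
    simp only [Cfsg.Spor.Fi23.extra, List.mem_cons, List.not_mem_nil, or_false] at hr
    rcases hr with rfl | rfl
    · have h := hkill spiderL 10 (by decide) fun b hb => Nat.eq_of_beq_eq_true (hrel b hb).1
      simpa [spiderL, hv, genIdx, Cfsg.Spor.Fi23.a, mul_assoc] using h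
    · have h := hkill sevenL 9 (by decide) fun b hb => Nat.eq_of_beq_eq_true (hrel b hb).2
      simpa [sevenL, hv, genIdx, mul_assoc] using h

/-- Every group of type M(23) is the presented Fi23, a generator going to a transposition. -/
theorem exists_iso_fi23 : ∃ e : Cfsg.Spor.Fi23 ≃* G,
    ∀ x, x ∈ D ↔ ∃ g, e (g * PresentedGroup.of Cfsg.Spor.Fi23.Gen.a * g⁻¹) = x := by
  obtain ⟨v, hv, hgen, hcox, hext⟩ := exists_gens hG
  have hrels : ∀ r ∈ Cfsg.Spor.coxRelators Cfsg.Spor.Fi23.edges ∪ {r | r ∈ Cfsg.Spor.Fi23.extra},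
      FreeGroup.lift v r = 1 := by
    rintro r (⟨x, -, y, -, rfl⟩ | hr)
    · simpa using hcox x y
    · exact hext r hr
  set ψ : Cfsg.Spor.Fi23 →* G := PresentedGroup.toGroup hrels with hψ
  have hof : ∀ x, ψ (PresentedGroup.of x) = v x := fun x => PresentedGroup.toGroup.of hrels
  have hsurj : Function.Surjective ψ := by
    rw [← MonoidHom.range_eq_top, eq_top_iff, ← hgen, Subgroup.closure_le]
    rintro _ ⟨x, rfl⟩
    exact ⟨_, hof x⟩
  have hsimple : IsSimpleGroup Cfsg.Spor.Fi23 := CosetEnum.Fi23.simple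
  have hinj : Function.Injective ψ := by
    rw [← MonoidHom.ker_eq_bot_iff]
    refine (hsimple.eq_bot_or_eq_top_of_normal ψ.ker inferInstance).resolve_right fun h => ?_
    refine ne_one hG.lay.tt (hv .a) ?_
    rw [← hof]
    exact MonoidHom.mem_ker.1 (h ▸ Subgroup.mem_top _)
  set e := MulEquiv.ofBijective ψ ⟨hinj, hsurj⟩ with he
  have hea : e (PresentedGroup.of Cfsg.Spor.Fi23.Gen.a) = v .a := hof .a
  refine ⟨e, fun x => ⟨fun hx => ?_, ?_⟩⟩
  · obtain ⟨g, hg⟩ := hG.lay.one (v .a) (hv .a) x hx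
    exact ⟨e.symm g, by rw [map_mul, map_mul, map_inv, hea, e.apply_symm_apply, hg]⟩
  · rintro ⟨g, rfl⟩
    rw [map_mul, map_mul, map_inv, hea]
    exact conj_mem hG.lay.tt _ (hv .a)

omit hG in
/-- Uniqueness of type M(23). -/
theorem exists_iso23 {G₁ G₂ : Type*} [Group G₁] [Finite G₁] [Group G₂] [Finite G₂] {D₁ : Set G₁} {D₂ : Set G₂}
    {d₁ : G₁} {d₂ : G₂} (h₁ : Cfg23 D₁ d₁) [Gen D₁] (h₂ : Cfg23 D₂ d₂) [Gen D₂] :
    ∃ e : G₁ ≃* G₂, e '' D₁ = D₂ := by
  obtain ⟨e₁, he₁⟩ := exists_iso_fi23 h₁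
  obtain ⟨e₂, he₂⟩ := exists_iso_fi23 h₂
  refine ⟨e₁.symm.trans e₂, Set.ext fun y => ⟨?_, fun hy => ?_⟩⟩
  · rintro ⟨x, hx, rfl⟩
    obtain ⟨g, rfl⟩ := (he₁ x).1 hx
    exact (he₂ _).2 ⟨g, by simp⟩
  · obtain ⟨g, rfl⟩ := (he₂ y).1 hy
    exact ⟨e₁ (g * PresentedGroup.of Cfsg.Spor.Fi23.Gen.a * g⁻¹), (he₁ _).2 ⟨g, rfl⟩, by simp⟩

end Cfsg.Agent.OddLocal44.M23
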