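import Cfsg.Agent.TT95.Cent23
import Cfsg.Agent.TT95.Calc.Width
import Cfsg.Agent.TT95.Orders23

/-!
Type M(23): under the centraliser of a transposition its subgroups of order three fall into at most four
classes.
-/

set_option autoImplicit false
set_option linter.unusedSectionVars false

namespace Cfsg.Agent.OddLocal44.M23

open Cfsg.Agent.TT95

variable {G : Type*} [Group G] [Finite G] {D : Set G} {d : G} (hG : Cfg23 D d) [Gen D]

include hG

theorem at_most_four {a : G} (ha : a ∈ D) : ∃ c : Subgroup G → Fin 4, ∀ Y Z : Subgroup G,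
    Nat.card Y = 3 → Nat.card Z = 3 → (∀ y ∈ Y, Commute y a) → (∀ z ∈ Z, Commute z a) → c Y = c Z →
    ∃ g, Commute g a ∧ Y.map (MulAut.conj g).toMonoidHom = Z := by
  classical
  have hD := hG.lay.tt
  haveI := gen_loc hG
  haveI := loc_finite hD d
  have hC := hG.loc
  obtain ⟨f, hf⟩ := hG.step.iso a ha
  obtain ⟨φ, hφ, -, hker⟩ := hf.exists_hom hD hC.tt hC.center
  obtain ⟨e₀, he₀⟩ : (nb D a).Nonempty :=
    Set.nonempty_of_ncard_ne_zero (by rw [hG.lay.card_nb a ha]; norm_num)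
  obtain ⟨dd, δ, hstd⟩ := Uni22.exists_std hC (hf.mem he₀)
  have hsurj : Function.Surjective φ := by
    rw [← MonoidHom.range_eq_top, eq_top_iff, ← Gen.gen (D := locSet D d), Subgroup.closure_le]
    intro x hx
    obtain ⟨y, hy, rfl⟩ := hf.surj hx
    exact ⟨_, hφ y hy⟩
  have hmem : ∀ Y : Subgroup G, (∀ y ∈ Y, Commute y a) → Y ≤ Subgroup.closure (nb D a) := fun Y hY y hy => by
    rw [← centralizer23 hG ha, Subgroup.mem_centralizer_singleton_iff]
    exact (hY y hy).eq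
  have hsq : a * a = 1 := sq hD ha
  have hone : a ≠ 1 := ne_one hD ha
  -- the kernel meets the elements of odd order trivially
  have hk : ∀ (u : G) (hu : u ∈ Subgroup.closure (nb D a)), φ ⟨u, hu⟩ = 1 → u ^ 3 = 1 → u = 1 := by
    intro u hu h1 h3
    rcases hG.lay.kernel ha (commute_closure_nb hD hu).symm ((hker ⟨u, hu⟩).1 h1) with e | e
    · exact e
    · exfalso
      rw [e, pow_succ, pow_two, hsq, one_mul] at h3
      exact hone h3
  set img : Subgroup G → Subgroup (ModCenter (Subgroup.closure (nb D d))) :=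
    fun Y => (Y.subgroupOf (Subgroup.closure (nb D a))).map φ
  have himg : ∀ Y : Subgroup G, Nat.card Y = 3 → (∀ y ∈ Y, Commute y a) → Nat.card (img Y) = 3 := by
    intro Y hY hYa
    have hle := hmem Y hYa
    show Nat.card ↥((Y.subgroupOf _).map φ) = 3
    have hinj : Function.Injective (φ.comp (Y.subgroupOf (Subgroup.closure (nb D a))).subtype) := by
      rw [injective_iff_map_eq_one]
      rintro ⟨⟨u, hu⟩, huY⟩ h1
      refine Subtype.ext (Subtype.ext (hk u hu h1 ?_))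
      have hp : (⟨u, huY⟩ : Y) ^ Nat.card Y = 1 := pow_card_eq_one'
      rw [hY] at hp
      exact congrArg Subtype.val hp
    rw [show (Y.subgroupOf _).map φ = (φ.comp (Y.subgroupOf _).subtype).range by
        rw [MonoidHom.range_comp, Subgroup.range_subtype],
      Nat.card_congr (MonoidHom.ofInjective hinj).symm.toEquiv,
      Nat.card_congr (Subgroup.subgroupOfEquivOfLe hle).toEquiv, hY]
  refine ⟨fun Y => if h : Nat.card (img Y) = 3 then
      ⟨(Calc.three_class hC hstd hG.core (img Y) h).choose,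
        (Calc.three_class hC hstd hG.core (img Y) h).choose_spec.1⟩ else 0, fun Y Z hY hZ hYa hZa hc => ?_⟩
  have h1 := himg Y hY hYa
  have h2 := himg Z hZ hZa
  simp only [dif_pos h1, dif_pos h2, Fin.mk.injEq] at hc
  obtain ⟨g₁, e₁⟩ := (Calc.three_class hC hstd hG.core (img Y) h1).choose_spec.2.1
  obtain ⟨g₂, e₂⟩ := (Calc.three_class hC hstd hG.core (img Z) h2).choose_spec.2.1
  rw [← hc] at e₂
  obtain ⟨⟨g, hg⟩, hgφ⟩ := hsurj (g₂⁻¹ * g₁)
  have hga : Commute g a := (commute_closure_nb hD hg).symm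
  refine ⟨g, hga, ?_⟩
  refine Subgroup.eq_of_le_of_card_ge ?_
    (by rw [Subgroup.card_map_of_injective (f := (MulAut.conj g).toMonoidHom) (MulAut.conj g).injective, hY, hZ])
  rintro _ ⟨y, hy, rfl⟩
  show g * y * g⁻¹ ∈ Z
  have hyc := hmem Y hYa hy
  set u : Subgroup.closure (nb D a) := ⟨g, hg⟩ * ⟨y, hyc⟩ * ⟨g, hg⟩⁻¹ with hu
  have hin : φ u ∈ img Z := by
    have hm : (g₁ * φ ⟨y, hyc⟩ * g₁⁻¹) ∈ (img Y).map (MulAut.conj g₁).toMonoidHom :=
      ⟨_, ⟨⟨y, hyc⟩, hy, rfl⟩, rfl⟩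
    rw [e₁, ← e₂] at hm
    obtain ⟨w, hw, ew⟩ := hm
    have ew' : g₂ * w * g₂⁻¹ = g₁ * φ ⟨y, hyc⟩ * g₁⁻¹ := ew
    rw [hu, map_mul, map_mul, map_inv, hgφ]
    suffices e' : g₂⁻¹ * g₁ * φ ⟨y, hyc⟩ * (g₂⁻¹ * g₁)⁻¹ = w from e' ▸ hw
    calc g₂⁻¹ * g₁ * φ ⟨y, hyc⟩ * (g₂⁻¹ * g₁)⁻¹ = g₂⁻¹ * (g₁ * φ ⟨y, hyc⟩ * g₁⁻¹) * g₂ := by group
      _ = w := by rw [← ew']; group
  obtain ⟨z, hz, ez⟩ := hin
  have hy3 : y ^ 3 = 1 := by
    have hp : (⟨y, hy⟩ : Y) ^ Nat.card Y = 1 := pow_card_eq_one'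
    rw [hY] at hp
    exact congrArg Subtype.val hp
  have hzZ : (z : G) ∈ Z := hz
  have hz3 : (z : G) ^ 3 = 1 := by
    have hp : (⟨(z : G), hzZ⟩ : Z) ^ Nat.card Z = 1 := pow_card_eq_one'
    rw [hZ] at hp
    exact congrArg Subtype.val hp
  have hq : φ (z⁻¹ * u) = 1 := by rw [map_mul, map_inv, ez, inv_mul_cancel]
  rcases hG.lay.kernel ha (commute_closure_nb hD (z⁻¹ * u).2).symm ((hker _).1 hq) with e | e
  · have : (u : G) = z := by
      rw [Subgroup.coe_mul, Subgroup.coe_inv, inv_mul_eq_one] at e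
      exact e.symm
    rw [hu] at this
    exact (show g * y * g⁻¹ = z from this) ▸ hzZ
  · exfalso
    apply hone
    rw [Subgroup.coe_mul, Subgroup.coe_inv, inv_mul_eq_iff_eq_mul] at e
    have hu3 : (u : G) ^ 3 = 1 := by
      rw [hu]
      show (g * y * g⁻¹) ^ 3 = 1
      rw [conj_pow, hy3]
      group
    rw [e, (show Commute (z : G) a from hZa _ hzZ).mul_pow, hz3, one_mul, pow_succ, pow_two, hsq, one_mul] at hu3
    exact hu3

end Cfsg.Agent.OddLocal44.M23
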